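import Mathlib

/-!
# Realizing a finite extension of a residue field by a finite free algebra (helper2)
-/

set_option autoImplicit false
set_option backward.isDefEq.respectTransparency.types false
set_option synthInstance.maxHeartbeats 400000
set_option maxHeartbeats 4000000
set_option linter.style.haveILetI false
set_option linter.unusedSectionVars false
set_option linter.unusedVariables false

universe u
open Polynomial IntermediateField

namespace Groth.Agent.Helper2.ResExt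

section fs
variable {A B : Type*} [CommRing A] [CommRing B] (φ : A →+* B)

/-- the subring of elements of the form `φ a / φ t` with `φ t` a unit -/
def fsSubring : Subring B where
  carrier := {b | ∃ a t : A, IsUnit (φ t) ∧ b * φ t = φ a}
  mul_mem' := by
    rintro y z ⟨a₁, t₁, ht₁, e₁⟩ ⟨a₂, t₂, ht₂, e₂⟩
    refine ⟨a₁ * a₂, t₁ * t₂, by rw [map_mul]; exact ht₁.mul ht₂, ?_⟩
    rw [map_mul, map_mul, ← e₁, ← e₂]; ring
  one_mem' := ⟨1, 1, by simp, by simp⟩
  add_mem' := by
    rintro y z ⟨a₁, t₁, ht₁, e₁⟩ ⟨a₂, t₂, ht₂, e₂⟩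
    refine ⟨a₁ * t₂ + a₂ * t₁, t₁ * t₂, by rw [map_mul]; exact ht₁.mul ht₂, ?_⟩
    rw [map_add, map_mul, map_mul, map_mul, ← e₁, ← e₂]; ring
  zero_mem' := ⟨0, 1, by simp, by simp⟩
  neg_mem' := by
    rintro y ⟨a, t, ht, e⟩
    exact ⟨-a, t, ht, by rw [map_neg, ← e]; ring⟩

theorem mem_fsSubring {b : B} :
    b ∈ fsSubring φ ↔ ∃ a t : A, IsUnit (φ t) ∧ b * φ t = φ a := Iff.rfl

theorem map_mem_fsSubring (a : A) : φ a ∈ fsSubring φ := ⟨a, 1, by simp, by simp⟩

theorem exists_common_denom (s : Finset B) (hs : ∀ b ∈ s, b ∈ fsSubring φ) :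
    ∃ t : A, IsUnit (φ t) ∧ ∀ b ∈ s, ∃ a : A, b * φ t = φ a := by
  classical
  induction s using Finset.induction_on with
  | empty => exact ⟨1, by simp, by simp⟩
  | insert b s hb ih =>
    obtain ⟨t, ht, hs'⟩ := ih (fun c hc => hs c (Finset.mem_insert_of_mem hc))
    obtain ⟨a', t', ht', hb'⟩ := hs b (Finset.mem_insert_self _ _)
    refine ⟨t * t', by rw [map_mul]; exact ht.mul ht', ?_⟩
    intro c hc
    rcases Finset.mem_insert.1 hc with rfl | hc
    · exact ⟨a' * t, by rw [map_mul, map_mul, ← hb']; ring⟩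
    · obtain ⟨a, ha⟩ := hs' c hc
      exact ⟨a * t', by rw [map_mul, map_mul, ← ha]; ring⟩

theorem fsSubring_mono {A' : Type*} [CommRing A'] (ι : A →+* A') (φ' : A' →+* B)
    (h : φ'.comp ι = φ) : fsSubring φ ≤ fsSubring φ' := by
  rintro b ⟨a, t, ht, e⟩
  have h' : ∀ a, φ' (ι a) = φ a := fun a => congrArg (fun f => f a) h
  exact ⟨ι a, ι t, by rw [h']; exact ht, by rw [h', h']; exact e⟩

end fs

/-- one step: adjoin a root -/
theorem step {R' ℓ : Type u} [CommRing R'] [Field ℓ] (ψ : R' →+* ℓ) (K : Subfield ℓ)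
    (hK : ∀ y ∈ K, y ∈ fsSubring ψ) (x : ℓ) (p : ℓ[X]) (hp : p.Monic)
    (hpK : ∀ i, p.coeff i ∈ K) (hpx : p.eval x = 0) :
    ∃ (μ : R'[X]) (_ : μ.Monic) (ψ' : AdjoinRoot μ →+* ℓ),
      ψ'.comp (AdjoinRoot.of μ) = ψ ∧ x ∈ fsSubring ψ' := by
  classical
  obtain ⟨t, ht, hcoef⟩ := exists_common_denom ψ ((Finset.range (p.natDegree + 1)).image p.coeff)
    (by
      intro b hb
      obtain ⟨i, -, rfl⟩ := Finset.mem_image.1 hb
      exact hK _ (hpK i))
  have hlifts : scaleRoots p (ψ t) ∈ lifts ψ := by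
    rw [lifts_iff_coeff_lifts]
    intro i
    rw [coeff_scaleRoots]
    by_cases hi : i ≤ p.natDegree
    · rcases hi.lt_or_eq with hlt | heq
      · obtain ⟨a, ha⟩ := hcoef (p.coeff i)
          (Finset.mem_image.2 ⟨i, Finset.mem_range.2 (by omega), rfl⟩)
        refine ⟨a * t ^ (p.natDegree - i - 1), ?_⟩
        have h1 : p.natDegree - i = (p.natDegree - i - 1) + 1 := by omega
        rw [map_mul, ← ha, map_pow, h1, pow_succ]
        simp only [Nat.add_sub_cancel]
        ring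
      · refine ⟨1, ?_⟩
        rw [heq, hp.coeff_natDegree]
        simp
    · refine ⟨0, ?_⟩
      rw [coeff_eq_zero_of_natDegree_lt (by omega)]
      simp
  obtain ⟨μ, hμmap, -, hμmonic⟩ := lifts_and_natDegree_eq_and_monic hlifts
    ((monic_scaleRoots_iff (ψ t)).2 hp)
  have h0 : μ.eval₂ ψ (ψ t * x) = 0 := by
    rw [← eval_map, hμmap, scaleRoots_eval_mul, hpx, mul_zero]
  refine ⟨μ, hμmonic, AdjoinRoot.lift ψ (ψ t * x) h0, ?_, ?_⟩
  · ext a
    simp
  · refine ⟨AdjoinRoot.root μ, AdjoinRoot.of μ t, ?_, ?_⟩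
    · rw [AdjoinRoot.lift_of]; exact ht
    · rw [AdjoinRoot.lift_of, AdjoinRoot.lift_root, mul_comm]

/-- the induction predicate -/
def Pred {R κ ℓ : Type u} [CommRing R] [Field κ] [Field ℓ] (ev : R →+* κ) [Algebra κ ℓ]
    (K : IntermediateField κ ℓ) : Prop :=
  ∃ (R' : Type u) (_ : CommRing R') (_ : Algebra R R') (ψ : R' →+* ℓ),
    Module.Flat R R' ∧ Algebra.FinitePresentation R R' ∧ (∀ y ∈ K, y ∈ fsSubring ψ) ∧
    ψ.comp (algebraMap R R') = (algebraMap κ ℓ).comp ev

theorem pred_bot {R κ ℓ : Type u} [CommRing R] [Field κ] [Field ℓ] (ev : R →+* κ)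
    (hev : ∀ k : κ, k ∈ fsSubring ev) [Algebra κ ℓ] : Pred ev (⊥ : IntermediateField κ ℓ) := by
  refine ⟨R, inferInstance, Algebra.id R, (algebraMap κ ℓ).comp ev, inferInstance, inferInstance,
    ?_, rfl⟩
  intro y hy
  obtain ⟨k, rfl⟩ := IntermediateField.mem_bot.1 hy
  obtain ⟨a, t, ht, e⟩ := hev k
  refine ⟨a, t, ht.map (algebraMap κ ℓ), ?_⟩
  simp only [RingHom.comp_apply]
  rw [← map_mul, e]

theorem pred_step {R κ ℓ : Type u} [CommRing R] [Field κ] [Field ℓ] (ev : R →+* κ)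
    [Algebra κ ℓ] [FiniteDimensional κ ℓ] (K : IntermediateField κ ℓ) (x : ℓ)
    (h : Pred ev K) : Pred ev (K⟮x⟯.restrictScalars κ) := by
  obtain ⟨R', _, _, ψ, hflat, hfp, hK, hcompat⟩ := h
  have hxint : IsIntegral K x := Algebra.IsIntegral.isIntegral x
  obtain ⟨μ, hμ, ψ', hψ', hx⟩ := step ψ K.toSubfield (fun y hy => hK y hy) x
    ((minpoly K x).map (algebraMap K ℓ)) ((minpoly.monic hxint).map _)
    (by
      intro i
      rw [coeff_map]
      exact ((minpoly K x).coeff i).2)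
    (by rw [eval_map_algebraMap]; exact minpoly.aeval K x)
  haveI : Module.Free R' (AdjoinRoot μ) := Module.Free.of_basis (AdjoinRoot.powerBasis' hμ).basis
  haveI : Module.Finite R' (AdjoinRoot μ) := hμ.finite_adjoinRoot
  haveI : Module.Flat R (AdjoinRoot μ) := Module.Flat.trans R R' (AdjoinRoot μ)
  haveI : Module.FinitePresentation R' (AdjoinRoot μ) :=
    Module.finitePresentation_of_projective _ _
  haveI : Algebra.FinitePresentation R' (AdjoinRoot μ) :=
    Algebra.FinitePresentation.of_finitePresentation R' (AdjoinRoot μ)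
  haveI : Algebra.FinitePresentation R (AdjoinRoot μ) :=
    Algebra.FinitePresentation.trans R R' (AdjoinRoot μ)
  refine ⟨AdjoinRoot μ, inferInstance, inferInstance, ψ', inferInstance, inferInstance, ?_, ?_⟩
  · have hadj : ∀ y ∈ Algebra.adjoin K {x}, y ∈ fsSubring ψ' := by
      intro y hy''
      induction hy'' using Algebra.adjoin_induction with
      | mem z hz =>
        rw [Set.mem_singleton_iff.1 hz]; exact hx
      | algebraMap k =>
        exact fsSubring_mono ψ (AdjoinRoot.of μ) ψ' hψ' (hK _ k.2)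
      | add y z _ _ hy hz => exact (fsSubring ψ').add_mem hy hz
      | mul y z _ _ hy hz => exact (fsSubring ψ').mul_mem hy hz
    intro y hy
    apply hadj
    rw [← IntermediateField.adjoin_simple_toSubalgebra_of_isAlgebraic hxint.isAlgebraic]
    exact hy
  · rw [IsScalarTower.algebraMap_eq R R' (AdjoinRoot μ), AdjoinRoot.algebraMap_eq,
      ← RingHom.comp_assoc, hψ', hcompat]

theorem main {R κ ℓ : Type u} [CommRing R] [Field κ] [Field ℓ] (ev : R →+* κ)
    (hev : ∀ k : κ, k ∈ fsSubring ev) [Algebra κ ℓ] [FiniteDimensional κ ℓ] :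
    ∃ (R' : Type u) (_ : CommRing R') (_ : Algebra R R') (ψ : R' →+* ℓ),
      Module.Flat R R' ∧ Algebra.FinitePresentation R R' ∧ (∀ y : ℓ, y ∈ fsSubring ψ) ∧
      ψ.comp (algebraMap R R') = (algebraMap κ ℓ).comp ev := by
  have := IntermediateField.induction_on_adjoin (F := κ) (E := ℓ) (Pred ev) (pred_bot ev hev)
    (fun K x h => pred_step ev K x h) ⊤
  obtain ⟨R', i1, i2, ψ, h1, h2, h3, h4⟩ := this
  exact ⟨R', i1, i2, ψ, h1, h2, fun y => h3 y IntermediateField.mem_top, h4⟩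

end Groth.Agent.Helper2.ResExt
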