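import Mathlib
import Groth.Agent.Lib.Helper2.ResExt.Alg

/-!
# Realizing a finite residue field extension fppf-locally (helper2)
-/

set_option autoImplicit false
set_option backward.isDefEq.respectTransparency.types false
set_option synthInstance.maxHeartbeats 400000
set_option maxHeartbeats 4000000
set_option linter.style.haveILetI false
set_option linter.unusedSectionVars false
set_option linter.unusedVariables false

universe u
open CategoryTheory CategoryTheory.Limits AlgebraicGeometry TopologicalSpace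

namespace Groth.Agent.Helper2.ResExt

theorem fs_evaluation (S : Scheme.{u}) (s : S) (S₀ : S.Opens) (hS₀ : IsAffineOpen S₀)
    (hs : s ∈ S₀) (k : S.residueField s) : k ∈ fsSubring (S.evaluation S₀ s hs).hom := by
  letI := S.presheaf.algebra_section_stalk ⟨s, hs⟩
  haveI := hS₀.isLocalization_stalk ⟨s, hs⟩
  obtain ⟨ξ, hξ⟩ := S.residue_surjective s k
  obtain ⟨⟨r, t⟩, hrt⟩ := IsLocalization.surj (hS₀.primeIdealOf ⟨s, hs⟩).asIdeal.primeCompl ξ
  have htu : IsUnit (algebraMap Γ(S, S₀) (S.presheaf.stalk s) t) :=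
    IsLocalization.map_units _ t
  refine ⟨r, t, htu.map (S.residue s).hom, ?_⟩
  have := congrArg (S.residue s).hom hrt
  rw [map_mul, hξ] at this
  exact this

theorem fromSpecResidueField_eq (S : Scheme.{u}) (s : S) (S₀ : S.Opens) (hS₀ : IsAffineOpen S₀)
    (hs : s ∈ S₀) :
    Spec.map (S.evaluation S₀ s hs) ≫ hS₀.fromSpec = S.fromSpecResidueField s := by
  unfold Scheme.fromSpecResidueField
  rw [← hS₀.fromSpecStalk_eq_fromSpecStalk hs]
  unfold IsAffineOpen.fromSpecStalk
  rw [← Spec.map_comp_assoc]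
  rfl

theorem main_sch (S : Scheme.{u}) (s : S) (ℓ : Type u) [Field ℓ] [Algebra (S.residueField s) ℓ]
    [Module.Finite (S.residueField s) ℓ] :
    ∃ (U' : Scheme.{u}) (b : U' ⟶ S) (t : Spec (CommRingCat.of ℓ) ⟶ U'),
      IsAffine U' ∧ Flat b ∧ LocallyOfFinitePresentation b ∧ IsPreimmersion t ∧
        t ≫ b = Spec.map (CommRingCat.ofHom (algebraMap (S.residueField s) ℓ)) ≫
          S.fromSpecResidueField s := by
  obtain ⟨S₀, hS₀, hsS₀, -⟩ := exists_isAffineOpen_mem_and_subset (x := s) (U := ⊤) trivial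
  obtain ⟨R', _, _, ψ, hflat, hfp, hfs, hcompat⟩ :=
    main (S.evaluation S₀ s hsS₀).hom (fs_evaluation S s S₀ hS₀ hsS₀) (ℓ := ℓ)
  refine ⟨Spec (CommRingCat.of R'),
    Spec.map (CommRingCat.ofHom (algebraMap Γ(S, S₀) R')) ≫ hS₀.fromSpec,
    Spec.map (CommRingCat.ofHom ψ), inferInstance, ?_, ?_, ?_, ?_⟩
  · haveI : Flat (Spec.map (CommRingCat.ofHom (algebraMap Γ(S, S₀) R'))) := by
      rw [HasRingHomProperty.Spec_iff (P := @Flat)]
      exact RingHom.flat_algebraMap_iff.mpr hflat
    infer_instance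
  · haveI : LocallyOfFinitePresentation
        (Spec.map (CommRingCat.ofHom (algebraMap Γ(S, S₀) R'))) := by
      rw [HasRingHomProperty.Spec_iff (P := @LocallyOfFinitePresentation)]
      exact RingHom.finitePresentation_algebraMap.mpr hfp
    infer_instance
  · refine IsPreimmersion.mk_SpecMap ?_ ?_
    · exact ⟨Topology.IsInducing.of_subsingleton _, Function.injective_of_subsingleton _⟩
    · refine RingHom.surjectiveOnStalks_of_exists_div fun x => ?_
      obtain ⟨a, t, ht, e⟩ := hfs x
      exact ⟨a, t, ht, by rw [mul_comm]; exact e⟩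
  · rw [← Category.assoc, ← Spec.map_comp, ← CommRingCat.ofHom_comp, hcompat,
      CommRingCat.ofHom_comp, Spec.map_comp, Category.assoc]
    congr 1
    exact fromSpecResidueField_eq S s S₀ hS₀ hsS₀

end Groth.Agent.Helper2.ResExt
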